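import Mathlib

/-!
# S5745, type (i), `k ≥ 5`: the number of surjections onto a simple group (helper586, for helper580)

`ncard_surj_le`: a finite group `Z` with `|Z| < |T| ^ (r + 1)` has at most `|Aut T| * r` surjective homomorphisms onto
the nonabelian simple group `T`.
-/

set_option autoImplicit false

namespace Cfsg.Agent.H586.EPX

variable {Z T : Type*} [Group Z] [Group T]

/-- the kernels of the surjections onto `T` -/
def IsKer (T : Type*) [Group T] (V : Subgroup Z) : Prop := ∃ f : Z →* T, Function.Surjective f ∧ f.ker = V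

theorem IsKer.normal {V : Subgroup Z} (h : IsKer T V) : V.Normal := by
  obtain ⟨f, -, rfl⟩ := h
  infer_instance

theorem IsKer.card [Finite Z] {V : Subgroup Z} (h : IsKer T V) : Nat.card V * Nat.card T = Nat.card Z := by
  obtain ⟨f, hf, rfl⟩ := h
  have h1 := f.ker.card_mul_index
  rwa [Subgroup.index_ker, MonoidHom.range_eq_top.2 hf, Subgroup.card_top] at h1

/-- distinct kernels are not contained in each other -/
theorem IsKer.eq_of_le [Finite Z] [Finite T] {V W : Subgroup Z} (hV : IsKer T V) (hW : IsKer T W) (h : W ≤ V) :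
    W = V := by
  refine Subgroup.eq_of_le_of_card_ge h ?_
  have h1 := hV.card
  have h2 := hW.card
  have h3 : 0 < Nat.card T := Nat.card_pos
  exact le_of_eq (Nat.eq_of_mul_eq_mul_right h3 (h1.trans h2.symm))

theorem commutator_top [IsSimpleGroup T] (hna : ∃ a b : T, a * b ≠ b * a) : ⁅(⊤ : Subgroup T), (⊤ : Subgroup T)⁆ = ⊤ := by
  rcases Subgroup.Normal.eq_bot_or_eq_top (H := ⁅(⊤ : Subgroup T), (⊤ : Subgroup T)⁆) inferInstance with h | h
  · exfalso
    obtain ⟨a, b, hab⟩ := hna
    have h1 := Subgroup.commutator_mem_commutator (Subgroup.mem_top a) (Subgroup.mem_top b)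
    rw [h, Subgroup.mem_bot, commutatorElement_eq_one_iff_mul_comm] at h1
    exact hab h1
  · exact h

/-- the intersection of finitely many kernels maps onto `T` under a surjection with another kernel -/
theorem map_inf_eq_top [Finite Z] [Finite T] [IsSimpleGroup T] (hna : ∃ a b : T, a * b ≠ b * a)
    {f : Z →* T} (hf : Function.Surjective f) (s : Finset (Subgroup Z)) (hs : ∀ W ∈ s, IsKer T W) (hV : f.ker ∉ s) :
    (s.inf id).Normal ∧ (s.inf id).map f = ⊤ := by
  classical
  induction s using Finset.induction_on with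
  | empty =>
    rw [Finset.inf_empty]
    refine ⟨inferInstance, ?_⟩
    rw [← MonoidHom.range_eq_map]
    exact MonoidHom.range_eq_top.2 hf
  | insert W s hW ih =>
    obtain ⟨h1, h2⟩ := ih (fun W' hW' => hs W' (Finset.mem_insert_of_mem hW')) fun h => hV (Finset.mem_insert_of_mem h)
    have hWk := hs W (Finset.mem_insert_self W s)
    have hWn : W.Normal := hWk.normal
    have h3 : W.map f = ⊤ := by
      have h4 : (W.map f).Normal := hWn.map f hf
      rcases h4.eq_bot_or_eq_top with h | h
      · exfalso
        have h5 : W ≤ f.ker := by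
          intro w hw
          have h6 : f w ∈ W.map f := Subgroup.mem_map_of_mem f hw
          rw [h, Subgroup.mem_bot] at h6
          exact h6
        have h7 := IsKer.eq_of_le (T := T) ⟨f, hf, rfl⟩ hWk h5
        exact hV (h7 ▸ Finset.mem_insert_self W s)
      · exact h
    rw [Finset.inf_insert, id_eq]
    refine ⟨inferInstance, ?_⟩
    rw [eq_top_iff, ← commutator_top hna]
    calc ⁅(⊤ : Subgroup T), (⊤ : Subgroup T)⁆ = ⁅W.map f, (s.inf id).map f⁆ := by rw [h3, h2]
      _ = ⁅W, s.inf id⁆.map f := (Subgroup.map_commutator _ _ _).symm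
      _ ≤ (W ⊓ s.inf id).map f := Subgroup.map_mono (Subgroup.commutator_le_inf _ _)

theorem card_inf [Finite Z] [Finite T] [IsSimpleGroup T] (hna : ∃ a b : T, a * b ≠ b * a)
    (s : Finset (Subgroup Z)) (hs : ∀ W ∈ s, IsKer T W) :
    Nat.card T ^ s.card * Nat.card ↥(s.inf id) = Nat.card Z := by
  classical
  induction s using Finset.induction_on with
  | empty =>
    rw [Finset.inf_empty, Finset.card_empty, pow_zero, one_mul, Subgroup.card_top]
  | insert W s hW ih =>
    have ih1 := ih fun W' hW' => hs W' (Finset.mem_insert_of_mem hW')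
    obtain ⟨f, hf, hfk⟩ := hs W (Finset.mem_insert_self W s)
    obtain ⟨-, h2⟩ := map_inf_eq_top hna hf s (fun W' hW' => hs W' (Finset.mem_insert_of_mem hW')) (hfk ▸ hW)
    rw [Finset.card_insert_of_notMem hW, Finset.inf_insert, id_eq, pow_succ, ← ih1]
    -- the restriction of `f` to the intersection
    set D : Subgroup Z := s.inf id with hD
    let g : D →* T := f.comp D.subtype
    have hg : Function.Surjective g := by
      intro t
      have : t ∈ D.map f := by rw [h2]; exact Subgroup.mem_top t
      obtain ⟨d, hd, hdt⟩ := this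
      exact ⟨⟨d, hd⟩, hdt⟩
    have h3 : Nat.card g.ker * Nat.card T = Nat.card D := IsKer.card ⟨g, hg, rfl⟩
    have h4 : Nat.card g.ker = Nat.card ↥(W ⊓ D) := by
      have e : g.ker = W.subgroupOf D := by
        ext d
        rw [MonoidHom.mem_ker, Subgroup.mem_subgroupOf, ← hfk, MonoidHom.mem_ker]
        rfl
      rw [e, inf_comm, ← Subgroup.inf_subgroupOf_left]
      exact Nat.card_congr (Subgroup.subgroupOfEquivOfLe inf_le_left).toEquiv
    rw [← h3, ← h4]
    ring

/-- **The number of surjections onto a nonabelian simple group.** -/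
theorem ncard_surj_le [Finite Z] [Finite T] [IsSimpleGroup T]
    (hna : ∃ a b : T, a * b ≠ b * a) {r : ℕ} (h : Nat.card Z < Nat.card T ^ (r + 1)) :
    {f : Z →* T | Function.Surjective f}.ncard ≤ Nat.card (MulAut T) * r := by
  classical
  have hT : 1 < Nat.card T := by
    obtain ⟨a, b, hab⟩ := hna
    have : Nontrivial T := ⟨a * b, b * a, hab⟩
    exact Finite.one_lt_card
  -- the number of kernels
  have hK : {V : Subgroup Z | IsKer T V}.ncard ≤ r := by
    have hfin : {V : Subgroup Z | IsKer T V}.Finite := Set.toFinite _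
    rw [Set.ncard_eq_toFinset_card _ hfin]
    have h1 := card_inf (T := T) hna hfin.toFinset fun W hW => hfin.mem_toFinset.1 hW
    have h2 : 0 < Nat.card ↥(hfin.toFinset.inf id) := Nat.card_pos
    have h3 : Nat.card T ^ hfin.toFinset.card ≤ Nat.card Z := by
      rw [← h1]
      exact Nat.le_mul_of_pos_right _ h2
    have h4 := (Nat.pow_lt_pow_iff_right hT).1 (h3.trans_lt h)
    omega
  -- a surjection for every kernel
  have hch : ∀ V : {V : Subgroup Z | IsKer T V}, ∃ f : Z →* T, Function.Surjective f ∧ f.ker = V := fun V => V.2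
  choose g hg hgk using hch
  -- surjections with the same kernel
  have haut : ∀ f : {f : Z →* T | Function.Surjective f}, ∃ φ : MulAut T,
      (f : Z →* T) = (φ : T →* T).comp (g ⟨(f : Z →* T).ker, (f : Z →* T), f.2, rfl⟩) := by
    intro f
    set V : {V : Subgroup Z | IsKer T V} := ⟨(f : Z →* T).ker, (f : Z →* T), f.2, rfl⟩ with hV
    have hk : (g V).ker = (f : Z →* T).ker := hgk V
    let e1 := QuotientGroup.quotientKerEquivOfSurjective (g V) (hg V)
    let e2 := QuotientGroup.quotientKerEquivOfSurjective (f : Z →* T) f.2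
    let e0 : Z ⧸ (g V).ker ≃* Z ⧸ (f : Z →* T).ker := QuotientGroup.quotientMulEquivOfEq hk
    refine ⟨(e1.symm.trans e0).trans e2, ?_⟩
    ext z
    change (f : Z →* T) z = e2 (e0 (e1.symm (g V z)))
    have h1 : e1.symm (g V z) = (z : Z ⧸ (g V).ker) := by
      rw [MulEquiv.symm_apply_eq]
      rfl
    rw [h1]
    rfl
  choose φ hφ using haut
  have hinj : Function.Injective fun f : {f : Z →* T | Function.Surjective f} =>
      (φ f, (⟨(f : Z →* T).ker, (f : Z →* T), f.2, rfl⟩ : {V : Subgroup Z | IsKer T V})) := by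
    intro f f' hff
    have h1 : φ f = φ f' := congrArg Prod.fst hff
    have h2 := congrArg Prod.snd hff
    apply Subtype.ext
    rw [hφ f, hφ f', h1]
    exact congrArg (fun V => ((φ f' : MulAut T) : T →* T).comp (g V)) h2
  have h5 := Nat.card_le_card_of_injective _ hinj
  rw [Nat.card_prod] at h5
  change Nat.card ↥{f : Z →* T | Function.Surjective f} ≤ _
  exact h5.trans (Nat.mul_le_mul_left _ hK)

end Cfsg.Agent.H586.EPX
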